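import Mathlib
import Cfsg.Prelude.Def_LieTypeChar
import Cfsg.Prelude.Def_ChevStructure

/-!
Project SQD = S4625: a Sylow 2-subgroup `P` of a simple group of Lie type in characteristic 2 has `x ^ 2 ∈ P'`.
Definitions shared by all rows.
-/

set_option autoImplicit false

namespace Cfsg.Agent.Lib.helper14.SQD

open Matrix

/-- the squares of the elements of `U` lie in the derived subgroup of `U` (everything inside `G`) -/
def SqD {G : Type*} [Group G] (U : Subgroup G) : Prop := ∀ x ∈ U, x ^ 2 ∈ ⁅U, U⁆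

/-- `G` has a 2-subgroup of odd index (a Sylow 2-subgroup) whose squares lie in its derived subgroup -/
def Good2 (G : Type*) [Group G] : Prop :=
  ∃ U : Subgroup G, IsPGroup 2 U ∧ ¬ 2 ∣ U.index ∧ SqD U

/-- upper unitriangular square matrices -/
def IsUUT {n : ℕ} {R : Type*} [CommRing R] (A : Matrix (Fin n) (Fin n) R) : Prop :=
  A.BlockTriangular id ∧ ∀ i, A i i = 1

/-- the group of upper unitriangular matrices, as a subgroup of `GL_n` (row T2: membership is `IsUUT`) -/
def uutGL (n : ℕ) (R : Type*) [CommRing R] : Subgroup (GL (Fin n) R) :=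
  Subgroup.closure {g | IsUUT (g : Matrix (Fin n) (Fin n) R)}

/-- the (twisted) adjoint `A ↦ (A^τ)ᵀ` of a matrix with respect to a ring endomorphism `τ` of the coefficients
(`τ = RingHom.id F`: the transpose; `τ = x ↦ x ^ q`: the conjugate transpose) -/
def tadj {m n : Type*} {R : Type*} [CommRing R] (τ : R →+* R) (A : Matrix m n R) : Matrix n m R :=
  (A.map τ)ᵀ

theorem tadj_mul {l m n : Type*} [Fintype m] {R : Type*} [CommRing R] (τ : R →+* R)
    (A : Matrix l m R) (B : Matrix m n R) : tadj τ (A * B) = tadj τ B * tadj τ A := by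
  unfold tadj
  rw [Matrix.map_mul, Matrix.transpose_mul]

theorem tadj_one {n : Type*} [DecidableEq n] {R : Type*} [CommRing R] (τ : R →+* R) :
    tadj τ (1 : Matrix n n R) = 1 := by
  unfold tadj
  rw [Matrix.map_one τ (map_zero τ) (map_one τ), Matrix.transpose_one]

theorem tadj_add {m n : Type*} {R : Type*} [CommRing R] (τ : R →+* R) (A B : Matrix m n R) :
    tadj τ (A + B) = tadj τ A + tadj τ B := by
  unfold tadj
  rw [Matrix.map_add τ (map_add τ), Matrix.transpose_add]

/-- `GL_k → GL_2k`, `A ↦ [[A, 0], [0, (A⁻¹)^*]]` (`*` = `tadj τ`) -/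
def levHom {k : ℕ} {R : Type*} [CommRing R] (τ : R →+* R) : GL (Fin k) R →* GL (Fin k ⊕ Fin k) R where
  toFun g :=
    ⟨Matrix.fromBlocks (g : Matrix (Fin k) (Fin k) R) 0 0 (tadj τ ((g⁻¹ : GL (Fin k) R) : Matrix (Fin k) (Fin k) R)),
     Matrix.fromBlocks ((g⁻¹ : GL (Fin k) R) : Matrix (Fin k) (Fin k) R) 0 0 (tadj τ (g : Matrix (Fin k) (Fin k) R)),
     by
       rw [Matrix.fromBlocks_multiply, ← tadj_mul]
       simp [Matrix.fromBlocks_one, tadj_one],
     by
       rw [Matrix.fromBlocks_multiply, ← tadj_mul]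
       simp [Matrix.fromBlocks_one, tadj_one]⟩
  map_one' := by
    apply Units.ext
    simp [Matrix.fromBlocks_one, tadj_one]
  map_mul' g h := by
    apply Units.ext
    simp only [Units.val_mul, _root_.mul_inv_rev, Matrix.fromBlocks_multiply]
    rw [tadj_mul]
    simp

theorem levHom_coe {k : ℕ} {R : Type*} [CommRing R] (τ : R →+* R) (g : GL (Fin k) R) :
    ((levHom τ g : GL (Fin k ⊕ Fin k) R) : Matrix (Fin k ⊕ Fin k) (Fin k ⊕ Fin k) R) =
      Matrix.fromBlocks (g : Matrix (Fin k) (Fin k) R) 0 0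
        (tadj τ ((g⁻¹ : GL (Fin k) R) : Matrix (Fin k) (Fin k) R)) := rfl

/-- `(Mat_k, +) → GL_2k`, `S ↦ [[1, S], [0, 1]]` -/
def siegHom {k : ℕ} {R : Type*} [CommRing R] :
    Multiplicative (Matrix (Fin k) (Fin k) R) →* GL (Fin k ⊕ Fin k) R where
  toFun S :=
    ⟨Matrix.fromBlocks 1 (Multiplicative.toAdd S) 0 1, Matrix.fromBlocks 1 (-(Multiplicative.toAdd S)) 0 1,
     by
       rw [Matrix.fromBlocks_multiply]
       simp [Matrix.fromBlocks_one],
     by
       rw [Matrix.fromBlocks_multiply]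
       simp [Matrix.fromBlocks_one]⟩
  map_one' := by
    apply Units.ext
    simp [Matrix.fromBlocks_one]
  map_mul' S T := by
    apply Units.ext
    simp only [Units.val_mul, Matrix.fromBlocks_multiply, toAdd_mul]
    simp [add_comm]

theorem siegHom_coe {k : ℕ} {R : Type*} [CommRing R] (S : Multiplicative (Matrix (Fin k) (Fin k) R)) :
    ((siegHom S : GL (Fin k ⊕ Fin k) R) : Matrix (Fin k ⊕ Fin k) (Fin k ⊕ Fin k) R) =
      Matrix.fromBlocks 1 (Multiplicative.toAdd S) 0 1 := rfl

/-- the Siegel part: the image of an additive group `𝒮` of matrices -/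
def siegGrp {k : ℕ} {R : Type*} [CommRing R] (𝒮 : AddSubgroup (Matrix (Fin k) (Fin k) R)) :
    Subgroup (GL (Fin k ⊕ Fin k) R) :=
  (AddSubgroup.toSubgroup 𝒮).map siegHom

/-- the Levi part: the image of the upper unitriangular group -/
def levGrp {k : ℕ} {R : Type*} [CommRing R] (τ : R →+* R) : Subgroup (GL (Fin k ⊕ Fin k) R) :=
  (uutGL k R).map (levHom τ)

/-- the "Siegel-type" unipotent group `{[[A, A S], [0, (A⁻¹)^*]] : A upper unitriangular, S ∈ 𝒮}` -/
def sgGrp {k : ℕ} {R : Type*} [CommRing R] (τ : R →+* R) (𝒮 : AddSubgroup (Matrix (Fin k) (Fin k) R)) :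
    Subgroup (GL (Fin k ⊕ Fin k) R) :=
  siegGrp 𝒮 ⊔ levGrp τ

/-- symmetric matrices -/
def symmAdd (k : ℕ) (R : Type*) [CommRing R] : AddSubgroup (Matrix (Fin k) (Fin k) R) where
  carrier := {S | Sᵀ = S}
  add_mem' {a b} ha hb := by
    show (a + b)ᵀ = a + b
    rw [Matrix.transpose_add, show aᵀ = a from ha, show bᵀ = b from hb]
  zero_mem' := Matrix.transpose_zero
  neg_mem' {a} ha := by
    show (-a)ᵀ = -a
    rw [Matrix.transpose_neg, show aᵀ = a from ha]

/-- alternating matrices: symmetric with zero diagonal (used in characteristic 2) -/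
def altAdd (k : ℕ) (R : Type*) [CommRing R] : AddSubgroup (Matrix (Fin k) (Fin k) R) where
  carrier := {S | Sᵀ = S ∧ ∀ i, S i i = 0}
  add_mem' {a b} ha hb := by
    refine ⟨?_, fun i => ?_⟩
    · rw [Matrix.transpose_add, ha.1, hb.1]
    · rw [Matrix.add_apply, ha.2, hb.2, add_zero]
  zero_mem' := ⟨Matrix.transpose_zero, fun _ => rfl⟩
  neg_mem' {a} ha := by
    refine ⟨?_, fun i => ?_⟩
    · rw [Matrix.transpose_neg, ha.1]
    · rw [Matrix.neg_apply, ha.2, neg_zero]

/-- `τ`-Hermitian matrices: `S^* = S` -/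
def hermAdd (k : ℕ) {R : Type*} [CommRing R] (τ : R →+* R) : AddSubgroup (Matrix (Fin k) (Fin k) R) where
  carrier := {S | tadj τ S = S}
  add_mem' {a b} ha hb := by
    show tadj τ (a + b) = a + b
    rw [tadj_add, show tadj τ a = a from ha, show tadj τ b = b from hb]
  zero_mem' := by
    show tadj τ 0 = 0
    unfold tadj
    rw [Matrix.map_zero τ (map_zero τ), Matrix.transpose_zero]
  neg_mem' {a} ha := by
    show tadj τ (-a) = -a
    have h : tadj τ (-a) = -tadj τ a := by
      unfold tadj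
      ext i j
      simp
    rw [h, show tadj τ a = a from ha]

/-- the inclusion of the symplectic group into `GL` -/
def spToGL (m : ℕ) (R : Type*) [CommRing R] :
    ↥(Matrix.symplecticGroup (Fin m) R) →* GL (Fin m ⊕ Fin m) R :=
  (Matrix.symplecticGroup (Fin m) R).subtype.toHomUnits

theorem spToGL_coe (m : ℕ) (R : Type*) [CommRing R] (g : ↥(Matrix.symplecticGroup (Fin m) R)) :
    ((spToGL m R g : GL (Fin m ⊕ Fin m) R) : Matrix (Fin m ⊕ Fin m) (Fin m ⊕ Fin m) R) = g.1 := rfl

/-- the upper unitriangular subgroup of `SL_n` -/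
def slU (n : ℕ) (R : Type*) [CommRing R] : Subgroup (Matrix.SpecialLinearGroup (Fin n) R) :=
  (uutGL n R).comap Matrix.SpecialLinearGroup.toGL

/-- the Siegel-type unipotent subgroup of `Sp_2m` -/
def spU (m : ℕ) (R : Type*) [CommRing R] : Subgroup ↥(Matrix.symplecticGroup (Fin m) R) :=
  (sgGrp (RingHom.id R) (symmAdd m R)).comap (spToGL m R)

end Cfsg.Agent.Lib.helper14.SQD
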