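import Mathlib
import Cfsg.Prelude.Def_LieTypeChar
import Cfsg.Agent.Lib.helper14.SQD.Defs

/-!
Project SQD = S4625: definitions for the unitary block U and the Heisenberg layer (blocks U-odd and O⁻).
-/

set_option autoImplicit false

namespace Cfsg.Agent.Lib.helper14.SQD

open Matrix Cfsg

/-- the field automorphism `x ↦ x ^ (2 ^ e)` in characteristic 2 -/
noncomputable abbrev frobE (F : Type*) [Field F] [CharP F 2] (e : ℕ) : F →+* F := iterateFrobenius F 2 e

/-- block embedding `GL ι → GL (ι ⊕ Fin d)`, `w ↦ [[w, 0], [0, 1]]` -/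
def embGL {ι : Type*} [Fintype ι] [DecidableEq ι] (d : ℕ) {R : Type*} [CommRing R] :
    GL ι R →* GL (ι ⊕ Fin d) R where
  toFun w :=
    ⟨Matrix.fromBlocks (w : Matrix ι ι R) 0 0 1, Matrix.fromBlocks ((w⁻¹ : GL ι R) : Matrix ι ι R) 0 0 1,
     by
       rw [Matrix.fromBlocks_multiply]
       simp [Matrix.fromBlocks_one],
     by
       rw [Matrix.fromBlocks_multiply]
       simp [Matrix.fromBlocks_one]⟩
  map_one' := by
    apply Units.ext
    simp [Matrix.fromBlocks_one]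
  map_mul' w w' := by
    apply Units.ext
    simp only [Units.val_mul, Matrix.fromBlocks_multiply]
    simp

theorem embGL_coe {ι : Type*} [Fintype ι] [DecidableEq ι] (d : ℕ) {R : Type*} [CommRing R] (w : GL ι R) :
    ((embGL d w : GL (ι ⊕ Fin d) R) : Matrix (ι ⊕ Fin d) (ι ⊕ Fin d) R) =
      Matrix.fromBlocks (w : Matrix ι ι R) 0 0 1 := rfl

/-- reindexing `GL (Fin n) R ≃* GL ι R` along `e : ι ≃ Fin n` -/
def reGL {ι : Type*} [Fintype ι] [DecidableEq ι] {n : ℕ} (R : Type*) [CommRing R] (e : ι ≃ Fin n) :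
    GL (Fin n) R ≃* GL ι R :=
  Units.mapEquiv (Matrix.reindexAlgEquiv R R e.symm).toMulEquiv

theorem reGL_coe {ι : Type*} [Fintype ι] [DecidableEq ι] {n : ℕ} (R : Type*) [CommRing R] (e : ι ≃ Fin n)
    (g : GL (Fin n) R) :
    ((reGL R e g : GL ι R) : Matrix ι ι R) = Matrix.reindex e.symm e.symm (g : Matrix (Fin n) (Fin n) R) := rfl

/-- the basis change matrix `[[1, a], [1, a + 1]]` (blocks `k × k`) to hyperbolic pairs, in characteristic 2 -/
def pevU {k : ℕ} {F : Type*} [Field F] [CharP F 2] (a : F) : GL (Fin k ⊕ Fin k) F :=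
  ⟨Matrix.fromBlocks 1 (a • (1 : Matrix (Fin k) (Fin k) F)) 1 ((a + 1) • (1 : Matrix (Fin k) (Fin k) F)),
   Matrix.fromBlocks ((a + 1) • (1 : Matrix (Fin k) (Fin k) F)) (a • (1 : Matrix (Fin k) (Fin k) F))
     (1 : Matrix (Fin k) (Fin k) F) (1 : Matrix (Fin k) (Fin k) F),
   by
     have h2 : (2 : F) = 0 := CharTwo.two_eq_zero
     rw [Matrix.fromBlocks_multiply, ← Matrix.fromBlocks_one]
     congr 1 <;>
     · ext i j
       by_cases hij : i = j
       · subst hij
         simp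
         try linear_combination (a) * h2
         try linear_combination (a + 1) * h2
       · simp [Matrix.one_apply_ne hij],
   by
     have h2 : (2 : F) = 0 := CharTwo.two_eq_zero
     rw [Matrix.fromBlocks_multiply, ← Matrix.fromBlocks_one]
     congr 1 <;>
     · ext i j
       by_cases hij : i = j
       · subst hij
         simp
         try linear_combination (a) * h2
         try linear_combination (a * (a + 1)) * h2
         try linear_combination h2
       · simp [Matrix.one_apply_ne hij]⟩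

theorem pevU_coe {k : ℕ} {F : Type*} [Field F] [CharP F 2] (a : F) :
    ((pevU a : GL (Fin k ⊕ Fin k) F) : Matrix (Fin k ⊕ Fin k) (Fin k ⊕ Fin k) F) =
      Matrix.fromBlocks 1 (a • (1 : Matrix (Fin k) (Fin k) F)) 1 ((a + 1) • (1 : Matrix (Fin k) (Fin k) F)) := rfl

/-- `SU_{2k} → GL (Fin k ⊕ Fin k)`: reindex, then conjugate by the basis change `pevU a`
(`g ↦ P⁻¹ * g * P`).  For `a ^ q + a = 1` its range is the special unitary group of the form with Gram matrix
`[[0, 1], [1, 0]]`. -/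
noncomputable def psiE {k : ℕ} {F : Type*} [Field F] [CharP F 2] (q : ℕ) (a : F) :
    ↥(SU (k + k) F q) →* GL (Fin k ⊕ Fin k) F :=
  ((MulAut.conj ((pevU a : GL (Fin k ⊕ Fin k) F)⁻¹)).toMonoidHom.comp
    (reGL F (finSumFinEquiv : Fin k ⊕ Fin k ≃ Fin (k + k))).toMonoidHom).comp
    (Matrix.SpecialLinearGroup.toGL.comp (SU (k + k) F q).subtype)

/-- `SU_{2k+1} → GL ((Fin k ⊕ Fin k) ⊕ Fin 1)`: reindex, then conjugate by `embGL 1 (pevU a)`. -/
noncomputable def psiO {k : ℕ} {F : Type*} [Field F] [CharP F 2] (q : ℕ) (a : F) :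
    ↥(SU (k + k + 1) F q) →* GL ((Fin k ⊕ Fin k) ⊕ Fin 1) F :=
  ((MulAut.conj ((embGL 1 (pevU a : GL (Fin k ⊕ Fin k) F))⁻¹)).toMonoidHom.comp
    (reGL F ((Equiv.sumCongr (finSumFinEquiv : Fin k ⊕ Fin k ≃ Fin (k + k)) (Equiv.refl (Fin 1))).trans
      (finSumFinEquiv : Fin (k + k) ⊕ Fin 1 ≃ Fin (k + k + 1)))).toMonoidHom).comp
    (Matrix.SpecialLinearGroup.toGL.comp (SU (k + k + 1) F q).subtype)

/-- the Heisenberg-type matrix on `(Fin k ⊕ Fin k) ⊕ Fin d`:
`[[1, C, v], [0, 1, 0], [0, R, 1]]` (rows/columns: `e`-part, `f`-part, middle part) with `v = R^* * G₀` -/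
def hsM {k d : ℕ} {F : Type*} [Field F] (τ : F →+* F) (G₀ : Matrix (Fin d) (Fin d) F)
    (R : Matrix (Fin d) (Fin k) F) (C : Matrix (Fin k) (Fin k) F) :
    Matrix ((Fin k ⊕ Fin k) ⊕ Fin d) ((Fin k ⊕ Fin k) ⊕ Fin d) F :=
  Matrix.fromBlocks (Matrix.fromBlocks 1 C 0 1) (Matrix.fromRows (tadj τ R * G₀) 0) (Matrix.fromCols 0 R) 1

/-- the group generated by the Heisenberg-type matrices whose parameters satisfy `𝒞`
(row H2: for a multiplicatively closed `𝒞` it consists exactly of these matrices) -/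
def hsGrp {k d : ℕ} {F : Type*} [Field F] (τ : F →+* F) (G₀ : Matrix (Fin d) (Fin d) F)
    (𝒞 : Matrix (Fin d) (Fin k) F → Matrix (Fin k) (Fin k) F → Prop) :
    Subgroup (GL ((Fin k ⊕ Fin k) ⊕ Fin d) F) :=
  Subgroup.closure {g | ∃ R C, 𝒞 R C ∧
    (g : Matrix ((Fin k ⊕ Fin k) ⊕ Fin d) ((Fin k ⊕ Fin k) ⊕ Fin d) F) = hsM τ G₀ R C}

/-- the unitary cocycle condition `C + C^* = R^* R` (characteristic 2) -/
def suC {k : ℕ} {F : Type*} [Field F] (τ : F →+* F) (R : Matrix (Fin 1) (Fin k) F)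
    (C : Matrix (Fin k) (Fin k) F) : Prop :=
  C + tadj τ C = tadj τ R * R

/-- the Sylow 2-subgroup of `SU_{2k+1}` in hyperbolic coordinates -/
def suOddGrp {k : ℕ} {F : Type*} [Field F] (τ : F →+* F) : Subgroup (GL ((Fin k ⊕ Fin k) ⊕ Fin 1) F) :=
  hsGrp τ (1 : Matrix (Fin 1) (Fin 1) F) (suC τ) ⊔ (levGrp τ).map (embGL 1)

end Cfsg.Agent.Lib.helper14.SQD
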