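import Mathlib
import Cfsg.Prelude.Def_ChevStructure
import Cfsg.Prelude.Def_ChevF4
import Cfsg.Prelude.Def_LieTwisted
import Cfsg.Agent.Lib.helper8.ChevTF33
import Cfsg.Agent.Lib.helper8.ChevTwU2
import Cfsg.Agent.Lib.helper14.SQD.Defs

/-!
Project SQD = S4625, block TF (`²F₄`): definitions.

`U¹ = posUnipotent ⊓ ²F₄(q)` has order `q ^ 12` (helper8 `h8tf_card_both`).  We exhibit a subgroup `tfT R ≤ U¹` generated by
eight subgroups `tfY R k` (the twisted root subgroups: `N¹`-conjugates of helper8's two fundamental ones, `tfX1 R` elementary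
abelian of order `q` and `tfX2 R` of Suzuki type of order `q ^ 2`), each of them `SqD`, and show `q ^ 12 ≤ |tfT R|` by a
leading-term count along the chain `h8Ub chevF4 K posiF4 i` of helper8.
-/

set_option autoImplicit false

namespace Cfsg.Agent.Lib.helper14.SQD

open Cfsg Cfsg.Lie Cfsg.Lie.ChevalleyDatum Cfsg.Agent.Lib.helper8

/-- the rank of a positive root of `F₄` in the total order "height, short before long, index" (0 on negative roots) -/
def posiF4L : List ℕ := [0, 0, 0, 0, 0, 0, 0, 0, 0, 0, 0, 0, 0, 0, 0, 0, 0, 0, 0, 0, 0, 0, 0, 0,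
  2, 3, 6, 0, 4, 7, 9, 12, 14, 1, 5, 8, 10, 11, 13, 16, 18, 15, 17, 19, 20, 21, 22, 23]

/-- a total order of the positive roots of `F₄` refining the height; every short root `r` comes before its partner `ρ r` -/
def posiF4 (r : ℕ) : ℕ := posiF4L.getD r 0

/-- the Weyl words of the eight positive twisted roots: `k < 4` of type `A₁ × A₁` (images of `{33, 24}`), `4 ≤ k < 8` of type
`B₂` (images of `{27, 25, 28, 30}`) -/
def tfWd (k : ℕ) : List ℕ :=
  ([[], [1, 2, 1, 2], [0, 3, 1, 2, 1, 2], [1, 2, 1, 2, 0, 3, 1, 2, 1, 2],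
    [], [0, 3], [1, 2, 1, 2, 0, 3], [0, 3, 1, 2, 1, 2, 0, 3]] : List (List ℕ)).getD k []

/-- the leading (short) roots of the twelve one-parameter families -/
def tfLead (j : ℕ) : ℕ := ([33, 37, 38, 39, 27, 34, 35, 29, 28, 36, 40, 44] : List ℕ).getD j 0

universe u

variable {K : Type u} [Field K] {hB : H8Base.{u} chevF4}

/-- the fundamental twisted root subgroup of type `A₁ × A₁` -/
def tfX1 (R : H8TF K hB) : Subgroup (GL chevF4.Idx K) :=
  Subgroup.closure (Set.range fun t : K => h8tfPair R 33 24 t)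

/-- the fundamental twisted root subgroup of type `B₂` -/
def tfX2 (R : H8TF K hB) : Subgroup (GL chevF4.Idx K) :=
  Subgroup.closure (Set.range fun p : K × K => h8tfCls R 27 25 28 30 p.1 p.2)

/-- the fundamental subgroup conjugated to the `k`-th positive twisted root subgroup -/
def tfX (R : H8TF K hB) (k : ℕ) : Subgroup (GL chevF4.Idx K) := if k < 4 then tfX1 R else tfX2 R

/-- the `k`-th positive twisted root subgroup, `k < 8` -/
def tfY (R : H8TF K hB) (k : ℕ) : Subgroup (GL chevF4.Idx K) :=
  (tfX R k).map (MulAut.conj (h8nWU chevF4 hB (tfWd k) : GL chevF4.Idx K)).toMonoidHom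

/-- the subgroup generated by the eight positive twisted root subgroups -/
def tfT (R : H8TF K hB) : Subgroup (GL chevF4.Idx K) := ⨆ k : Fin 8, tfY R k.val

/-- the twelve one-parameter families: `j < 4` the classes of type `A₁ × A₁`; `4 ≤ j < 8` the elements `cls(t, 0)` of the
classes of type `B₂`; `8 ≤ j < 12` their central elements `cls(0, t)` -/
def tfGen (R : H8TF K hB) (j : ℕ) (t : K) : GL chevF4.Idx K :=
  if j < 4 then
    (h8nWU chevF4 hB (tfWd j) : GL chevF4.Idx K) * h8tfPair R 33 24 t * (h8nWU chevF4 hB (tfWd j) : GL chevF4.Idx K)⁻¹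
  else if j < 8 then
    (h8nWU chevF4 hB (tfWd j) : GL chevF4.Idx K) * h8tfCls R 27 25 28 30 t 0 *
      (h8nWU chevF4 hB (tfWd j) : GL chevF4.Idx K)⁻¹
  else
    (h8nWU chevF4 hB (tfWd (j - 4)) : GL chevF4.Idx K) * h8tfCls R 27 25 28 30 0 t *
      (h8nWU chevF4 hB (tfWd (j - 4)) : GL chevF4.Idx K)⁻¹

/-- the coefficient of the leading root element of `tfGen R j t` -/
def tfCo (R : H8TF K hB) (j : ℕ) (t : K) : K := if j < 8 then R.f t else t

/-- the normal form of the `j`-th family: the leading root element times an element which does not involve the leading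
root or roots before it -/
def TfForm (R : H8TF K hB) (j : ℕ) : Prop :=
  ∀ t : K, tfGen R j t ∈ h8Ub chevF4 K posiF4 (posiF4 (tfLead j)) ∧
    ∃ y ∈ Subgroup.closure (h8WkSet chevF4 K posiF4 (tfLead j)),
      tfGen R j t = h8xU chevF4 hB (tfLead j) (tfCo R j t) * y

end Cfsg.Agent.Lib.helper14.SQD
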