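import Mathlib
import Cfsg.Prelude.Def_LieTypeChar
import Cfsg.Prelude.Def_ChevStructure
import Cfsg.Prelude.Def_ChevF4
import Cfsg.Prelude.Def_LieTwisted
import Cfsg.Agent.Lib.helper8.ChevTF35
import Cfsg.Agent.Lib.helper8.ChevTwU2
import Cfsg.Agent.Lib.helper14.SQD.Defs
import Cfsg.Agent.Lib.helper14.SQD.DefsTF
import Cfsg.Agent.Lib.Helper22.SQDTF3

/-! Project SQD row TF4: conjugates of the fundamental fixed elements of `²F₄` by `n_w` in characteristic 2. -/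

set_option autoImplicit false

namespace Cfsg.Agent.Lib.helper14.SQD

open Cfsg Cfsg.Lie Cfsg.Lie.ChevalleyDatum Cfsg.Agent.Lib.helper8

universe u

/-- TF4a [E]. -/
theorem conj_pair {K : Type u} [Field K] [CharP K 2] {hB : H8Base.{u} chevF4} (R : H8TF K hB) (w : List ℕ)
    (hw : ∀ i ∈ w, i < chevF4.rank) (t : K) :
    (h8nWU chevF4 hB w : GL chevF4.Idx K) * h8tfPair R 33 24 t * (h8nWU chevF4 hB w : GL chevF4.Idx K)⁻¹ =
      h8xU chevF4 hB (h8sW chevF4 w 33) (R.f t) * h8xU chevF4 hB (h8sW chevF4 w 24) t := by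
  rw [← nWU_conj_char2 hB w hw 33 (by decide) (R.f t), ← nWU_conj_char2 hB w hw 24 (by decide) t]
  unfold h8tfPair
  group

/-- TF4b [E]. -/
theorem conj_cls {K : Type u} [Field K] [CharP K 2] {hB : H8Base.{u} chevF4} (R : H8TF K hB) (w : List ℕ)
    (hw : ∀ i ∈ w, i < chevF4.rank) (t v : K) :
    (h8nWU chevF4 hB w : GL chevF4.Idx K) * h8tfCls R 27 25 28 30 t v * (h8nWU chevF4 hB w : GL chevF4.Idx K)⁻¹ =
      h8xU chevF4 hB (h8sW chevF4 w 27) (R.f t) * h8xU chevF4 hB (h8sW chevF4 w 25) t *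
        h8xU chevF4 hB (h8sW chevF4 w 28) (R.f t * t + v) * h8xU chevF4 hB (h8sW chevF4 w 30) ((R.f v) ^ 2) := by
  rw [← nWU_conj_char2 hB w hw 27 (by decide) (R.f t), ← nWU_conj_char2 hB w hw 25 (by decide) t,
    ← nWU_conj_char2 hB w hw 28 (by decide) (R.f t * t + v),
    ← nWU_conj_char2 hB w hw 30 (by decide) ((R.f v) ^ 2)]
  unfold h8tfCls
  group

end Cfsg.Agent.Lib.helper14.SQD
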