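import Mathlib
import Cfsg.Prelude.Def_ChevStructure
import Cfsg.Prelude.Def_ChevF4
import Cfsg.Agent.Lib.helper8.ChevTwU2
import Cfsg.Agent.Lib.helper14.SQD.DefsTF

/-! Project SQD, block TF, row TF1: `posiF4` is a reading order for helper8's reading lemma `h8x_not_mem_Wk`. -/

set_option autoImplicit false

namespace Cfsg.Agent.Lib.helper14.SQD

open Cfsg Cfsg.Lie Cfsg.Lie.ChevalleyDatum Cfsg.Agent.Lib.helper8

set_option synthInstance.maxSize 1000 in
set_option synthInstance.maxHeartbeats 200000 in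
theorem sqdtf1_read1 : ∀ k < chevF4.nroots, ∀ r < chevF4.nroots, chevF4.IsPosRoot k →
    chevF4.IsPosRoot r → r ≠ k → posiF4 k ≤ posiF4 r →
      ∀ e ∈ chevF4.chainEntry r (chevF4.negIdx.getD k 0), chevF4.nroots / 2 ≤ e.1 := by
  decide +kernel

/-- TF1. -/
theorem posiF4_read : H8BlkRead chevF4 posiF4 :=
  ⟨fun k r hk hr => sqdtf1_read1 k hk.1 r hr.1 hk hr⟩

end Cfsg.Agent.Lib.helper14.SQD
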