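import Mathlib
import Cfsg.Prelude.Def_LieTypeChar
import Cfsg.Prelude.Def_ChevStructure
import Cfsg.Agent.Lib.helper14.SQD.Defs
import Cfsg.Agent.Lib.Helper12.SQDC4core
import Cfsg.Agent.Lib.Helper29.SQDC1
import Cfsg.Agent.Lib.Helper29.SQDC2
import Cfsg.Agent.Lib.Helper21.SQDC3
import Cfsg.Agent.Lib.Helper18.SQDX7

/-! Project SQD, row C4 = FAM6 (verbatim wrapper of helper12's core on the landed rows X9, C1, C2, C3). -/

set_option autoImplicit false

namespace Cfsg.Agent.Lib.helper14.SQD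

open Cfsg Cfsg.Lie Matrix

/-- FAM6 (block C). -/
theorem good2_chev {F : Type} [Field F] [Fintype F] [CharP F 2] (D : ChevalleyDatum)
    (hD : D ∈ [chevG2, chevF4, chevE6, chevE7, chevE8]) : Good2 (D.group F) :=
  sqdc4_core D hD (fun M U _ hUM k r hp hU hM hr hS => good2_sub M U hUM k r hp hU hM hr hS)
    (chev_pos_sqd D hD) (chev_pos_le D) (fun f hf => chev_two_part f hf D hD)

end Cfsg.Agent.Lib.helper14.SQD
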