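import Mathlib
import Cfsg.Prelude.Def_LieTypeChar
import Cfsg.Prelude.Def_ChevStructure
import Cfsg.Agent.Lib.helper14.SQD.Defs
import Cfsg.Agent.Lib.Helper1.SQDX4

/-!
Project SQD = S4625: the top assembly as a core.  The ten family statements (FAM1 - FAM10 of `SkelTop.lean.txt`) are hypotheses;
X4 (`good2_of_equiv`) and X6 (`good2_sylow`) are cited from `Helper1.SQDX4`.
-/

set_option autoImplicit false

namespace Cfsg.Agent.Lib.helper14.SQD

open Cfsg Cfsg.Lie Matrix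

universe u

/-- MAIN0 core: every group of Lie type in characteristic 2 is `Good2`, given the ten family statements. -/
theorem sqdmain_good2_lie_core
    (h1 : ∀ {F : Type} [Field F] [Fintype F] [CharP F 2] (n : ℕ), 2 ≤ n →
      Good2 (Matrix.ProjectiveSpecialLinearGroup (Fin n) F))
    (h2 : ∀ {F : Type} [Field F] [Fintype F] [CharP F 2] (m : ℕ), 2 ≤ m → Good2 (PSp m F))
    (h3 : ∀ {F : Type} [Field F] [Fintype F] [CharP F 2] (n q : ℕ), Fintype.card F = q ^ 2 → 3 ≤ n →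
      Good2 (PSU n F q))
    (h4 : ∀ {F : Type} [Field F] [Fintype F] [CharP F 2] (m : ℕ), 4 ≤ m →
      Good2 (POmega F (quadFormPlus m F)))
    (h5 : ∀ {F : Type} [Field F] [Fintype F] [CharP F 2] (m : ℕ), 4 ≤ m → ∀ (a b : F),
      (∀ z₁ z₂ : F, z₁ ^ 2 + a * z₁ * z₂ + b * z₂ ^ 2 = 0 → z₁ = 0 ∧ z₂ = 0) →
      Good2 (POmega F (quadFormMinus (m - 1) F a b)))
    (h6 : ∀ {F : Type} [Field F] [Fintype F] [CharP F 2] (D : ChevalleyDatum),
      D ∈ [chevG2, chevF4, chevE6, chevE7, chevE8] → Good2 (D.group F))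
    (h7 : ∀ {K : Type} [Field K] [Fintype K] [CharP K 2] (q : ℕ), IsPrimePow q →
      Fintype.card K = q ^ 2 → Good2 (twistedE6 K q))
    (h8 : ∀ {K : Type} [Field K] [Fintype K] [CharP K 2] (q : ℕ), IsPrimePow q →
      Fintype.card K = q ^ 3 → Good2 (twistedD4 K q))
    (h9 : ∀ {F : Type} [Field F] [Fintype F] (m : ℕ), 1 ≤ m →
      Fintype.card F = 2 ^ (2 * m + 1) → Good2 (Lie.Sz F (2 ^ (m + 1))))
    (h10 : ∀ {K : Type} [Field K] [Fintype K] (m : ℕ), 1 ≤ m →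
      Fintype.card K = 2 ^ (2 * m + 1) → Good2 (twistedF4 K (2 ^ m)))
    {G : Type u} [Group G] [Finite G] (hG : IsLieTypeChar 2 G) : Good2 G := by
  rcases hG with h | h | h | h | h | h | h | h | h | h | h
  · obtain ⟨F, _, _, _, n, hn, -, ⟨e⟩⟩ := h
    exact good2_of_equiv e (h1 n hn)
  · obtain ⟨F, _, _, _, m, hm, -, ⟨e⟩⟩ := h
    exact good2_of_equiv e (h2 m hm)
  · obtain ⟨F, _, _, _, n, q, hF, hn, -, ⟨e⟩⟩ := h
    exact good2_of_equiv e (h3 n q hF hn)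
  · obtain ⟨F, _, _, _, m, -, hodd, -⟩ := h
    exfalso
    obtain ⟨k, -, hk⟩ := FiniteField.card F 2
    rw [hk] at hodd
    exact (Nat.not_even_iff_odd.2 hodd) ((Nat.even_pow' (by exact_mod_cast k.ne_zero)).2 even_two)
  · obtain ⟨F, _, _, _, m, hm, ⟨e⟩⟩ := h
    exact good2_of_equiv e (h4 m hm)
  · obtain ⟨F, _, _, _, m, a, b, hm, hab, ⟨e⟩⟩ := h
    exact good2_of_equiv e (h5 m hm a b hab)
  · obtain ⟨F, _, _, _, h⟩ := h
    rcases h with ⟨-, ⟨e⟩⟩ | ⟨⟨e⟩⟩ | ⟨⟨e⟩⟩ | ⟨⟨e⟩⟩ | ⟨⟨e⟩⟩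
    · exact good2_of_equiv e (h6 chevG2 (by simp))
    · exact good2_of_equiv e (h6 chevF4 (by simp))
    · exact good2_of_equiv e (h6 chevE6 (by simp))
    · exact good2_of_equiv e (h6 chevE7 (by simp))
    · exact good2_of_equiv e (h6 chevE8 (by simp))
  · obtain ⟨K, _, _, _, q, hq, h⟩ := h
    rcases h with ⟨hK, ⟨e⟩⟩ | ⟨hK, ⟨e⟩⟩
    · exact good2_of_equiv e (h7 q hq hK)
    · exact good2_of_equiv e (h8 q hq hK)
  · obtain ⟨-, F, _, _, m, hm, hF, ⟨e⟩⟩ := h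
    exact good2_of_equiv e (h9 m hm hF)
  · obtain ⟨-, K, _, _, m, hm, hK, ⟨e⟩⟩ := h
    exact good2_of_equiv e (h10 m hm hK)
  · exact absurd h.1 (by norm_num)

end Cfsg.Agent.Lib.helper14.SQD
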