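import Mathlib
import Cfsg.Prelude.Def_LieTypeChar
import Cfsg.Prelude.Def_ChevStructure
import Cfsg.Prelude.Def_ChevF4
import Cfsg.Prelude.Def_LieTwisted
import Cfsg.Agent.Lib.helper8.ChevTF35
import Cfsg.Agent.Lib.helper8.ChevTwU2
import Cfsg.Agent.Lib.helper14.SQD.Defs
import Cfsg.Agent.Lib.helper14.SQD.DefsTF
import Cfsg.Agent.Lib.helper14.SQD.TF1
import Cfsg.Agent.Lib.helper14.SQD.TF4
import Cfsg.Agent.Lib.Helper27.SQDTF2
import Cfsg.Agent.Lib.Helper25.SQDTF5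
import Cfsg.Agent.Lib.Helper20.SQDTF6bcore
import Cfsg.Agent.Lib.helper8.SQDTF7a
import Cfsg.Agent.Lib.helper8.SQDTF7bcore
import Cfsg.Agent.Lib.helper6.SQDTF8a
import Cfsg.Agent.Lib.Helper10.SQDTF8b
import Cfsg.Agent.Lib.Helper10.SQDTF8c
import Cfsg.Agent.Lib.Helper11.SQDTF15
import Cfsg.Agent.Lib.Helper29.SQDX3
import Cfsg.Agent.Lib.Helper18.SQDX2
import Cfsg.Agent.Lib.Helper18.SQDX7

/-!
Project SQD = S4625, block TF: the final assembly of FAM10 (`good2_tw_f4`) under own names `sqdtffin_*` (an express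
assembly on the landed rows and cores, so that nothing waits for the remaining wrappers).
-/

set_option autoImplicit false

namespace Cfsg.Agent.Lib.helper14.SQD

open Cfsg Cfsg.Lie Cfsg.Lie.ChevalleyDatum Cfsg.Agent.Lib.helper8

universe u v

/-- the root table for the four families of type `A₁ × A₁` -/
theorem sqdtffin_tab : ∀ j < 4,
    (∀ i ∈ tfWd j, i < chevF4.rank) ∧ h8sW chevF4 (tfWd j) 33 = tfLead j ∧
      chevF4.IsPosRoot (tfLead j) ∧ chevF4.IsPosRoot (h8sW chevF4 (tfWd j) 24) ∧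
        h8sW chevF4 (tfWd j) 24 ≠ tfLead j ∧ posiF4 (tfLead j) ≤ posiF4 (h8sW chevF4 (tfWd j) 24) := by
  decide +kernel

/-- TF6a (own copy). -/
theorem sqdtffin_form_pair {K : Type u} [Field K] [CharP K 2] {hB : H8Base.{u} chevF4} (R : H8TF K hB) :
    ∀ j < 4, TfForm R j := by
  intro j h4 t
  obtain ⟨hw, h33, hlead, p24, n24, l24⟩ := sqdtffin_tab j h4
  have hgen : tfGen R j t = h8xU chevF4 hB (tfLead j) (R.f t) *
      h8xU chevF4 hB (h8sW chevF4 (tfWd j) 24) t := by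
    unfold tfGen
    rw [if_pos h4, conj_pair R (tfWd j) hw t, h33]
  have hco : tfCo R j t = R.f t := by
    unfold tfCo
    rw [if_pos (by omega)]
  refine ⟨?_, _, ?_, by rw [hgen, hco]⟩
  · rw [hgen]
    exact Subgroup.mul_mem _ (h8xU_mem_Ub chevF4 hB posiF4 _ _ hlead le_rfl _)
      (h8xU_mem_Ub chevF4 hB posiF4 _ _ p24 l24 _)
  · exact sqdtf6_mem_Wk _ _ p24 n24 l24 _

/-- TF6 (own copy). -/
theorem sqdtffin_form_all {K : Type u} [Field K] [CharP K 2] {hB : H8Base.{u} chevF4} (R : H8TF K hB) :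
    ∀ j < 12, TfForm R j := by
  intro j hj
  by_cases h4 : j < 4
  · exact sqdtffin_form_pair R j h4
  · by_cases h8 : j < 8
    · exact sqdtf6b_core R (fun w hw t v => conj_cls R w hw t v) j (by omega) h8
    · exact sqdtf6c_core R (fun w hw t v => conj_cls R w hw t v) j (by omega) hj

/-- TF8d (own copy). -/
theorem sqdtffin_sqd_tfT {K : Type u} [Field K] [CharP K 2] {hB : H8Base.{u} chevF4} (R : H8TF K hB) (a₀ : K)
    (ha : R.f a₀ ≠ a₀) : SqD (tfT R) := by
  unfold tfT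
  apply sqd_iSup
  intro k x hx
  have hX : SqD (tfX R k.val) := by
    unfold tfX
    split_ifs
    · exact sqd_tfX1 R
    · exact sqd_tfX2 R a₀ ha
  have hY : SqD (tfY R k.val) := sqd_map _ _ hX
  exact Subgroup.commutator_mono (le_iSup (fun k : Fin 8 => tfY R k.val) k)
    (le_iSup (fun k : Fin 8 => tfY R k.val) k) (hY x hx)

/-- TF10 (own copy). -/
theorem sqdtffin_card_ge {K : Type u} [Field K] [Finite K] [CharP K 2] {hB : H8Base.{u} chevF4} (R : H8TF K hB) :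
    Nat.card K ^ 12 ≤ Nat.card ↥(tfT R) := by
  have hlead : ∀ j < 12, chevF4.IsPosRoot (tfLead j) := by decide
  have hinj : ∀ j < 12, ∀ j' < 12, posiF4 (tfLead j) = posiF4 (tfLead j') → j = j' := by decide
  have : Finite (GL chevF4.Idx K) := inferInstance
  refine card_ge_of_chain (tfT R) (fun i => h8Ub chevF4 K posiF4 i) (fun i => h8Ub_mono chevF4 posiF4 i) 12
    (fun j => posiF4 (tfLead j)) hinj (fun j t => tfGen R j t) ?_ ?_
  · intro j hj t
    exact ⟨tfGen_mem R j hj t, (sqdtffin_form_all R j hj t).1⟩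
  · intro j hj a b h
    obtain ⟨y, hy, ey⟩ := (sqdtffin_form_all R j hj a).2
    obtain ⟨y', hy', ey'⟩ := (sqdtffin_form_all R j hj b).2
    have h' : (tfGen R j a)⁻¹ * tfGen R j b ∈ h8Ub chevF4 K posiF4 (posiF4 (tfLead j) + 1) := h
    rw [ey, ey'] at h'
    have hc := tf_sep hB (tfLead j) (hlead j hj) _ _ y y' hy hy' h'
    unfold tfCo at hc
    split_ifs at hc
    · exact R.f.injective hc
    · exact hc

/-- TF11 (own copy). -/
theorem sqdtffin_le {K : Type u} [Field K] [CharP K 2] {hB : H8Base.{u} chevF4} (R : H8TF K hB) (e : ℕ)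
    (hfe : ∀ t : K, R.f t = t ^ e) : tfT R ≤ chevF4.posUnipotent K ⊓ twistedF4 K e := by
  unfold tfT
  apply iSup_le
  intro k
  exact le_inf (sqdtf7b_core R (sqdtffin_form_all R) k.val k.2) (tfY_le_G R e hfe k.val k.2)

/-- TF12 (own copy). -/
theorem sqdtffin_eq {K : Type u} [Field K] [Fintype K] [CharP K 2] {hB : H8Base.{u} chevF4} (R : H8TF K hB) (m : ℕ)
    (hK : Fintype.card K = 2 ^ (2 * m + 1)) (hfe : ∀ t : K, R.f t = t ^ (2 ^ m)) :
    tfT R = chevF4.posUnipotent K ⊓ twistedF4 K (2 ^ m) := by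
  have hle := sqdtffin_le R (2 ^ m) hfe
  have hcard := (h8tf_card_both hK).1
  have hge := sqdtffin_card_ge R
  rw [Nat.card_eq_fintype_card, hK] at hge
  have : Finite ↥(chevF4.posUnipotent K ⊓ twistedF4 K (2 ^ m)) := inferInstance
  apply Subgroup.eq_of_le_of_card_ge hle
  rw [hcard]
  exact hge

/-- TF14 (own copy). -/
theorem sqdtffin_sqd {K : Type u} [Field K] [Fintype K] (m : ℕ) (hm : 1 ≤ m) (hK : Fintype.card K = 2 ^ (2 * m + 1)) :
    SqD (chevF4.posUnipotent K ⊓ twistedF4 K (2 ^ m)) := by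
  have := h8tf_char2 hK
  have hB := h8base_all.{u} chevF4 h8tf_F4_mem
  obtain ⟨R, hfe⟩ := h8tf_setup hK hB
  obtain ⟨a₀, ha⟩ := tf_f_ne m hm hK
  rw [← sqdtffin_eq R m hK hfe]
  exact sqdtffin_sqd_tfT R a₀ (by rw [hfe]; exact ha)

/-- TF16 = FAM10 (own name; the verbatim `good2_tw_f4` is `sqdtffin_good2 m hm hK`). -/
theorem sqdtffin_good2 {K : Type} [Field K] [Fintype K] (m : ℕ) (hm : 1 ≤ m)
    (hK : Fintype.card K = 2 ^ (2 * m + 1)) : Good2 (twistedF4 K (2 ^ m)) := by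
  obtain ⟨r, hr, hodd⟩ := tf_two_part m hK
  have hU := (h8tf_card_both hK).1
  have hU' : Nat.card ↥(chevF4.posUnipotent K ⊓ twistedF4 K (2 ^ m)) = 2 ^ ((2 * m + 1) * 12) := by
    rw [hU, pow_mul]
  have : Fact (Nat.Prime 2) := ⟨Nat.prime_two⟩
  exact good2_sub (twistedF4 K (2 ^ m)) (chevF4.posUnipotent K ⊓ twistedF4 K (2 ^ m)) inf_le_right
    ((2 * m + 1) * 12) r (IsPGroup.of_card hU') (le_of_eq hU'.symm) hr hodd (sqdtffin_sqd m hm hK)

end Cfsg.Agent.Lib.helper14.SQD
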