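import Mathlib
import Cfsg.Prelude.Def_LieTypeChar
import Cfsg.Agent.Lib.helper14.SQD.Defs
import Cfsg.Agent.Lib.helper14.SQD.DefsU
import Cfsg.Agent.Lib.Helper12.SQDUO9core
import Cfsg.Agent.Lib.Helper18.SQDUF
import Cfsg.Agent.Lib.Helper10.SQDUE3
import Cfsg.Agent.Lib.helper2.SQDUO5
import Cfsg.Agent.Lib.helper4.SQDUO7
import Cfsg.Agent.Lib.helper4.SQDUO8
import Cfsg.Agent.Lib.Helper28.SQDUE10
import Cfsg.Agent.Lib.Helper1.SQDX4
import Cfsg.Agent.Lib.Helper18.SQDX2

/-! Project SQD, row UO9 (verbatim wrapper of helper12's core on the landed rows). -/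

set_option autoImplicit false

namespace Cfsg.Agent.Lib.helper14.SQD

open Cfsg Cfsg.Lie Matrix

section UO
variable {F : Type} [Field F] [Fintype F] [CharP F 2] (e : ℕ) {k : ℕ}

/-- UO9. -/
theorem good2_psu_odd (hF : Fintype.card F = (2 ^ e) ^ 2) (k : ℕ) (hk : 1 ≤ k) :
    Good2 (PSU (k + k + 1) F (2 ^ e)) :=
  sqduo9_core e k (exists_trace_one e hF) (fun a => psiO_injective e a) (suOdd_good e hF)
    (fun a ha => suOdd_le_range e hF a ha) (fun a ha z hz hc => suOdd_center e hF hk a ha z hz hc)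
    (card_psu_two_part e hF (k + k + 1) (by omega))
    (fun N _ U k' r hp hU hZ hM hr hS => good2_quot_card N U k' r hp hU hZ hM hr hS)
    (fun f hf K hK hS => sqd_comap f hf K hK hS) (fun f hf K hK => card_comap f hf K hK)

end UO

end Cfsg.Agent.Lib.helper14.SQD
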