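import Mathlib
import Cfsg.Prelude.Def_LieTypeChar
import Cfsg.Agent.Lib.helper14.SQD.Defs
import Cfsg.Agent.Lib.helper14.SQD.DefsU
import Cfsg.Agent.Lib.Helper16.SQDUFINcore
import Cfsg.Agent.Lib.Helper26.SQDUE11
import Cfsg.Agent.Lib.helper14.SQD.UO9

/-! Project SQD, row UFIN = FAM3 (verbatim wrapper of helper16's core on UE11 (helper26) and UO9). -/

set_option autoImplicit false

namespace Cfsg.Agent.Lib.helper14.SQD

open Cfsg Cfsg.Lie Matrix

/-- FAM3 (block U). -/
theorem good2_psu {F : Type} [Field F] [Fintype F] [CharP F 2] (n q : ℕ) (hF : Fintype.card F = q ^ 2)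
    (hn : 3 ≤ n) : Good2 (PSU n F q) :=
  good2_psu_core (fun e hF k hk => good2_psu_even e hF k hk) (fun e hF k hk => good2_psu_odd e hF k hk)
    n q hF hn

end Cfsg.Agent.Lib.helper14.SQD
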